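import Mathlib

/-! Flat base change of the cotangent module of an ideal: abstract injectivity lemma. -/

set_option autoImplicit false
set_option backward.isDefEq.respectTransparency.types false
set_option synthInstance.maxHeartbeats 400000
set_option maxHeartbeats 4000000
set_option linter.style.haveILetI false
set_option linter.unusedSectionVars false
set_option linter.unusedVariables false
set_option linter.unusedSimpArgs false
set_option linter.unnecessarySimpa false

open TensorProduct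

namespace Groth.Agent.Helper2.NLFlat

variable {A A' : Type*} [CommRing A] [CommRing A'] [Algebra A A']
  (I : Ideal A) (I' : Ideal A') (hI : I' = I.map (algebraMap A A'))

/-- the `A`-linear map `A → A' ⧸ I'²` -/
noncomputable def gMap : A →ₗ[A] A' ⧸ I' ^ 2 :=
  (Ideal.Quotient.mkₐ A (I' ^ 2)).toLinearMap ∘ₗ Algebra.linearMap A A'

theorem gMap_apply (p : A) :
    gMap I' p = Ideal.Quotient.mk (I' ^ 2) (algebraMap A A' p) := rfl

include hI in
theorem le_ker_gMap : I ^ 2 ≤ LinearMap.ker (gMap (A := A) I') := by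
  intro p hp
  rw [LinearMap.mem_ker, gMap_apply, Ideal.Quotient.eq_zero_iff_mem, hI, ← Ideal.map_pow]
  exact Ideal.mem_map_of_mem _ hp

/-- the induced map `A ⧸ I² → A' ⧸ I'²` -/
noncomputable def psi0 : A ⧸ I ^ 2 →ₗ[A] A' ⧸ I' ^ 2 :=
  Submodule.liftQ (I ^ 2) (gMap I') (le_ker_gMap I I' hI)

theorem psi0_mk (p : A) :
    psi0 I I' hI (Ideal.Quotient.mk (I ^ 2) p) =
      Ideal.Quotient.mk (I' ^ 2) (algebraMap A A' p) := rfl

/-- its `A'`-linear extension -/
noncomputable def Psi : A' ⊗[A] (A ⧸ I ^ 2) →ₗ[A'] A' ⧸ I' ^ 2 :=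
  LinearMap.liftBaseChange A' (psi0 I I' hI)

theorem Psi_tmul (a' : A') (x : A ⧸ I ^ 2) :
    Psi I I' hI (a' ⊗ₜ x) = a' • psi0 I I' hI x :=
  LinearMap.liftBaseChange_tmul _ _ _ _

theorem Psi_injective : Function.Injective (Psi I I' hI) := by
  rw [injective_iff_map_eq_zero]
  intro y hy
  obtain ⟨a', ha'⟩ := Submodule.Quotient.mk_surjective _
    (TensorProduct.tensorQuotEquivQuotSMul A' (I ^ 2) y)
  have hy2 : y = a' ⊗ₜ[A] (1 : A ⧸ I ^ 2) := by
    rw [← TensorProduct.tensorQuotEquivQuotSMul_symm_mk, ha', LinearEquiv.symm_apply_apply]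
  have h1 : Psi I I' hI (a' ⊗ₜ[A] (1 : A ⧸ I ^ 2)) = Ideal.Quotient.mk (I' ^ 2) a' := by
    rw [Psi_tmul, ← map_one (Ideal.Quotient.mk (I ^ 2)), psi0_mk, map_one, map_one,
      Algebra.smul_def, mul_one]
    rfl
  rw [hy2, h1, Ideal.Quotient.eq_zero_iff_mem] at hy
  have h2 : a' ∈ (I ^ 2 • ⊤ : Submodule A A') := by
    rw [Ideal.smul_top_eq_map]
    show a' ∈ (I ^ 2).map (algebraMap A A')
    rw [Ideal.map_pow, ← hI]
    exact hy
  rw [hy2, ← TensorProduct.tensorQuotEquivQuotSMul_symm_mk (I ^ 2) a',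
    (Submodule.Quotient.mk_eq_zero _).mpr h2, map_zero]

theorem injective_of_comm [Module.Flat A A']
    {M N : Type*} [AddCommGroup M] [Module A M] [AddCommGroup N]
    (q : M →ₗ[A] A ⧸ I ^ 2) (hq : Function.Injective q)
    (q' : N →+ A' ⧸ I' ^ 2) (θ : A' ⊗[A] M →+ N)
    (hθ : ∀ (a' : A') (m : M), q' (θ (a' ⊗ₜ m)) = a' • psi0 I I' hI (q m)) :
    Function.Injective θ := by
  have hcomm : ∀ x : A' ⊗[A] M, q' (θ x) = Psi I I' hI (q.lTensor A' x) := by
    intro x
    induction x using TensorProduct.induction_on with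
    | zero => simp
    | tmul a' m => rw [hθ, LinearMap.lTensor_tmul, Psi_tmul]
    | add x y hx hy => rw [map_add, map_add, hx, hy, map_add, map_add]
  have hinj : Function.Injective (q.lTensor A') :=
    Module.Flat.lTensor_preserves_injective_linearMap (M := A') q hq
  intro x y hxy
  apply hinj
  apply Psi_injective I I' hI
  rw [← hcomm, ← hcomm, hxy]

end Groth.Agent.Helper2.NLFlat
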