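import Mathlib

/-! Homotopies between maps out of a two-term cochain complex in degrees `-1, 0`. -/

set_option autoImplicit false
set_option backward.isDefEq.respectTransparency.types false
set_option synthInstance.maxHeartbeats 400000
set_option maxHeartbeats 4000000
set_option linter.style.haveILetI false
set_option linter.unusedSectionVars false
set_option linter.unusedVariables false
set_option linter.unusedSimpArgs false
set_option linter.unnecessarySimpa false

open CategoryTheory CategoryTheory.Limits HomologicalComplex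

namespace Groth.Agent.Helper2.NLFlat

variable {C : Type*} [Category C] [Preadditive C] [HasZeroObject C]
  {X₀ X₁ : C} (φ : X₀ ⟶ X₁)

theorem rel01 : (ComplexShape.up ℤ).Rel (-1) 0 := by simp

theorem ne01 : (-1 : ℤ) ≠ 0 := by decide

/-- the components of the homotopy -/
noncomputable def hFun {L : CochainComplex C ℤ} (s : X₁ ⟶ L.X (-1)) (i j : ℤ) :
    (double φ rel01).X i ⟶ L.X j :=
  if h : i = 0 ∧ j = -1 then
    eqToHom (by rw [h.1]) ≫ (doubleXIso₁ φ rel01 ne01).hom ≫ s ≫ eqToHom (by rw [h.2])
  else 0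

theorem hFun_pos {L : CochainComplex C ℤ} (s : X₁ ⟶ L.X (-1)) :
    hFun φ s 0 (-1) = (doubleXIso₁ φ rel01 ne01).hom ≫ s := by
  unfold hFun
  rw [dif_pos (show (0 : ℤ) = 0 ∧ (-1 : ℤ) = -1 from ⟨rfl, rfl⟩)]
  simp

theorem hFun_neg {L : CochainComplex C ℤ} (s : X₁ ⟶ L.X (-1)) (i j : ℤ)
    (h : ¬ (i = 0 ∧ j = -1)) : hFun φ s i j = 0 := by
  unfold hFun
  rw [dif_neg h]

/-- A homotopy between two maps out of a two-term complex, from a single map
`X₁ ⟶ L.X (-1)`. -/
noncomputable def homotopyOfDouble {L : CochainComplex C ℤ}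
    (a b : double φ rel01 ⟶ L) (s : X₁ ⟶ L.X (-1))
    (h0 : a.f (-1) = (doubleXIso₀ φ rel01).hom ≫ φ ≫ s + b.f (-1))
    (h1 : a.f 0 = (doubleXIso₁ φ rel01 ne01).hom ≫ s ≫ L.d (-1) 0 + b.f 0) :
    Homotopy a b where
  hom := hFun φ s
  zero i j hij := by
    apply hFun_neg
    rintro ⟨rfl, rfl⟩
    exact hij (by simp)
  comm i := by
    by_cases hi0 : i = -1
    · subst hi0
      rw [dNext_eq (hFun φ s) (show (ComplexShape.up ℤ).Rel (-1) 0 by simp),
        prevD_eq (hFun φ s) (show (ComplexShape.up ℤ).Rel (-2) (-1) by simp),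
        hFun_pos, hFun_neg φ s (-1) (-2) (by decide), zero_comp, add_zero,
        double_d φ rel01 ne01]
      simp only [Category.assoc, Iso.inv_hom_id_assoc]
      exact h0
    · by_cases hi1 : i = 0
      · subst hi1
        rw [dNext_eq (hFun φ s) (show (ComplexShape.up ℤ).Rel 0 1 by simp),
          prevD_eq (hFun φ s) (show (ComplexShape.up ℤ).Rel (-1) 0 by simp),
          hFun_pos, hFun_neg φ s 1 0 (by decide), comp_zero, zero_add, Category.assoc]
        exact h1
      · exact (isZero_double_X φ rel01 i hi0 hi1).eq_of_src _ _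

end Groth.Agent.Helper2.NLFlat
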