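import Mathlib
import Groth.Prelude.Def_SheafNL
import Groth.Agent.Lib.Helper2.NLFlat.Double

/-! Chain-level functoriality and homotopy invariance of the prelude's two-term naive cotangent
complexes `NLCx.cx`, `NLCx.bcCx`. -/

set_option autoImplicit false
set_option synthInstance.maxHeartbeats 400000
set_option maxHeartbeats 4000000
set_option linter.style.haveILetI false
set_option linter.unusedSectionVars false
set_option linter.unusedVariables false
set_option linter.unusedSimpArgs false
set_option linter.unnecessarySimpa false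

open CategoryTheory CategoryTheory.Limits TensorProduct HomologicalComplex

namespace Groth.Agent.Helper2.NLFlat

universe u

open Algebra.Extension

section Lin

variable {R S R' S' : Type u} [CommRing R] [CommRing S] [Algebra R S] [CommRing R'] [CommRing S']
  [Algebra R' S'] [Algebra R R'] [Algebra S S'] [Algebra R S'] [IsScalarTower R R' S']
  [IsScalarTower R S S']
  {P : Algebra.Extension.{u} R S} {P' P'' : Algebra.Extension.{u} R' S'}

theorem lbc_cot_sub (f g : P.Hom P') :
    LinearMap.liftBaseChange S' (Cotangent.map f) =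
      LinearMap.liftBaseChange S' (f.sub g) ∘ₗ P.cotangentComplex.baseChange S' +
        LinearMap.liftBaseChange S' (Cotangent.map g) := by
  refine TensorProduct.AlgebraTensorModule.ext (fun s c => ?_)
  rw [LinearMap.add_apply, LinearMap.comp_apply, LinearMap.baseChange_tmul,
    LinearMap.liftBaseChange_tmul, LinearMap.liftBaseChange_tmul, LinearMap.liftBaseChange_tmul,
    ← smul_add]
  congr 1
  have := DFunLike.congr_fun (Cotangent.map_sub_map f g) c
  rw [LinearMap.sub_apply, LinearMap.comp_apply] at this
  rw [← this, sub_add_cancel]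

theorem lbc_cotSp_sub (f g : P.Hom P') :
    LinearMap.liftBaseChange S' (CotangentSpace.map f) =
      P'.cotangentComplex ∘ₗ LinearMap.liftBaseChange S' (f.sub g) +
        LinearMap.liftBaseChange S' (CotangentSpace.map g) := by
  refine TensorProduct.AlgebraTensorModule.ext (fun s c => ?_)
  rw [LinearMap.add_apply, LinearMap.comp_apply,
    LinearMap.liftBaseChange_tmul, LinearMap.liftBaseChange_tmul, LinearMap.liftBaseChange_tmul,
    map_smul, ← smul_add]
  congr 1
  have := DFunLike.congr_fun (CotangentSpace.map_sub_map f g) c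
  rw [LinearMap.sub_apply, LinearMap.comp_apply, LinearMap.restrictScalars_apply] at this
  rw [← this, sub_add_cancel]

theorem lbc_cot_comp (f : P.Hom P') (g : P'.Hom P'') :
    LinearMap.liftBaseChange S' (Cotangent.map (g.comp f)) =
      Cotangent.map g ∘ₗ LinearMap.liftBaseChange S' (Cotangent.map f) := by
  refine TensorProduct.AlgebraTensorModule.ext (fun s c => ?_)
  rw [LinearMap.liftBaseChange_tmul, LinearMap.comp_apply, LinearMap.liftBaseChange_tmul,
    map_smul, Cotangent.map_comp]
  rfl

theorem lbc_cotSp_comp (f : P.Hom P') (g : P'.Hom P'') :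
    LinearMap.liftBaseChange S' (CotangentSpace.map (g.comp f)) =
      CotangentSpace.map g ∘ₗ LinearMap.liftBaseChange S' (CotangentSpace.map f) := by
  refine TensorProduct.AlgebraTensorModule.ext (fun s c => ?_)
  rw [LinearMap.liftBaseChange_tmul, LinearMap.comp_apply, LinearMap.liftBaseChange_tmul,
    map_smul, CotangentSpace.map_comp]
  rfl

end Lin

section LinSame

variable {R S : Type u} [CommRing R] [CommRing S] [Algebra R S]
  {Q Q' Q'' : Algebra.Extension.{u} R S}

theorem cot_sub (f g : Q.Hom Q') :
    Cotangent.map f = (f.sub g) ∘ₗ Q.cotangentComplex + Cotangent.map g := by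
  refine LinearMap.ext (fun c => ?_)
  have := DFunLike.congr_fun (Cotangent.map_sub_map f g) c
  rw [LinearMap.sub_apply, LinearMap.comp_apply] at this
  rw [LinearMap.add_apply, LinearMap.comp_apply, ← this, sub_add_cancel]

theorem cotSp_sub (f g : Q.Hom Q') :
    CotangentSpace.map f = Q'.cotangentComplex ∘ₗ (f.sub g) + CotangentSpace.map g := by
  refine LinearMap.ext (fun c => ?_)
  have := DFunLike.congr_fun (CotangentSpace.map_sub_map f g) c
  rw [LinearMap.sub_apply, LinearMap.comp_apply, LinearMap.restrictScalars_apply] at this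
  rw [LinearMap.add_apply, LinearMap.comp_apply, ← this, sub_add_cancel]

theorem cot_comp (f : Q.Hom Q') (g : Q'.Hom Q'') :
    Cotangent.map (g.comp f) = Cotangent.map g ∘ₗ Cotangent.map f := by
  refine LinearMap.ext (fun c => ?_)
  rw [Cotangent.map_comp]
  rfl

theorem cotSp_comp (f : Q.Hom Q') (g : Q'.Hom Q'') :
    CotangentSpace.map (g.comp f) = CotangentSpace.map g ∘ₗ CotangentSpace.map f := by
  refine LinearMap.ext (fun c => ?_)
  rw [CotangentSpace.map_comp]
  rfl

end LinSame

section Cat

theorem ofHom_add' {A : Type u} [Ring A] {M N : Type u} [AddCommGroup M] [Module A M]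
    [AddCommGroup N] [Module A N] (a b : M →ₗ[A] N) :
    ModuleCat.ofHom (a + b) = ModuleCat.ofHom a + ModuleCat.ofHom b := rfl

end Cat

section ChainBC

variable {R S R' S' : Type u} [CommRing R] [CommRing S] [Algebra R S] [CommRing R'] [CommRing S']
  [Algebra R' S'] [Algebra R R'] [Algebra S S'] [Algebra R S'] [IsScalarTower R R' S']
  [IsScalarTower R S S']
  {P : Algebra.Extension.{u} R S} {P' P'' : Algebra.Extension.{u} R' S'}

/-- two morphisms of extensions over a square induce homotopic maps `NL(P) ⊗ S' → NL(P')` -/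
noncomputable def homotopyBcMap (f g : P.Hom P') :
    Homotopy (NLCx.bcMap (S' := S') f) (NLCx.bcMap g) :=
  homotopyOfDouble (C := ModuleCat.{u} S') (ModuleCat.ofHom (P.cotangentComplex.baseChange S'))
    (L := NLCx.cx P') (NLCx.bcMap f) (NLCx.bcMap g)
    (ModuleCat.ofHom (LinearMap.liftBaseChange S' (f.sub g)) ≫
      (doubleXIso₀ (ModuleCat.ofHom P'.cotangentComplex) rel01).inv)
    (by
      unfold NLCx.bcMap
      rw [mkHomFromDouble_f₀, mkHomFromDouble_f₀, lbc_cot_sub f g, ofHom_add',
        ModuleCat.ofHom_comp]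
      simp only [Preadditive.add_comp, Preadditive.comp_add, Category.assoc])
    (by
      unfold NLCx.bcMap
      rw [mkHomFromDouble_f₁, mkHomFromDouble_f₁, lbc_cotSp_sub f g, ofHom_add',
        ModuleCat.ofHom_comp]
      dsimp only [NLCx.cx]
      rw [double_d _ _ ne01]
      simp only [Preadditive.add_comp, Preadditive.comp_add, Category.assoc,
        Iso.inv_hom_id_assoc]
      rfl)

theorem bcMap_comp (f : P.Hom P') (g : P'.Hom P'') :
    NLCx.bcMap (S' := S') (g.comp f) = NLCx.bcMap f ≫ NLCx.map g := by
  apply from_double_hom_ext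
  · rw [comp_f]
    unfold NLCx.bcMap NLCx.map
    dsimp only [NLCx.cx, NLCx.bcCx]
    rw [mkHomFromDouble_f₀, mkHomFromDouble_f₀, mkHomFromDouble_f₀, lbc_cot_comp f g,
      ModuleCat.ofHom_comp]
    simp only [Category.assoc, Iso.inv_hom_id_assoc]
  · rw [comp_f]
    unfold NLCx.bcMap NLCx.map
    dsimp only [NLCx.cx, NLCx.bcCx]
    rw [mkHomFromDouble_f₁, mkHomFromDouble_f₁, mkHomFromDouble_f₁, lbc_cotSp_comp f g,
      ModuleCat.ofHom_comp]
    simp only [Category.assoc, Iso.inv_hom_id_assoc]

end ChainBC

section ChainSame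

variable {R S : Type u} [CommRing R] [CommRing S] [Algebra R S]
  {Q Q' Q'' : Algebra.Extension.{u} R S}

/-- two morphisms of extensions of the same algebra induce homotopic maps `NL(Q) → NL(Q')` -/
noncomputable def homotopyMap (f g : Q.Hom Q') :
    Homotopy (NLCx.map f) (NLCx.map g) :=
  homotopyOfDouble (C := ModuleCat.{u} S) (ModuleCat.ofHom Q.cotangentComplex)
    (L := NLCx.cx Q') (NLCx.map f) (NLCx.map g)
    (ModuleCat.ofHom (f.sub g) ≫
      (doubleXIso₀ (ModuleCat.ofHom Q'.cotangentComplex) rel01).inv)
    (by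
      unfold NLCx.map
      rw [mkHomFromDouble_f₀, mkHomFromDouble_f₀, cot_sub f g, ofHom_add',
        ModuleCat.ofHom_comp]
      simp only [Preadditive.add_comp, Preadditive.comp_add, Category.assoc])
    (by
      unfold NLCx.map
      rw [mkHomFromDouble_f₁, mkHomFromDouble_f₁, cotSp_sub f g, ofHom_add',
        ModuleCat.ofHom_comp]
      dsimp only [NLCx.cx]
      rw [double_d _ _ ne01]
      simp only [Preadditive.add_comp, Preadditive.comp_add, Category.assoc,
        Iso.inv_hom_id_assoc]
      rfl)

theorem map_comp (f : Q.Hom Q') (g : Q'.Hom Q'') :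
    NLCx.map (g.comp f) = NLCx.map f ≫ NLCx.map g := by
  apply from_double_hom_ext
  · rw [comp_f]
    unfold NLCx.map
    dsimp only [NLCx.cx, NLCx.bcCx]
    rw [mkHomFromDouble_f₀, mkHomFromDouble_f₀, mkHomFromDouble_f₀, cot_comp f g,
      ModuleCat.ofHom_comp]
    simp only [Category.assoc, Iso.inv_hom_id_assoc]
  · rw [comp_f]
    unfold NLCx.map
    dsimp only [NLCx.cx, NLCx.bcCx]
    rw [mkHomFromDouble_f₁, mkHomFromDouble_f₁, mkHomFromDouble_f₁, cotSp_comp f g,
      ModuleCat.ofHom_comp]
    simp only [Category.assoc, Iso.inv_hom_id_assoc]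

theorem map_id (Q : Algebra.Extension.{u} R S) :
    NLCx.map (Algebra.Extension.Hom.id Q) = 𝟙 (NLCx.cx Q) := by
  apply from_double_hom_ext
  · unfold NLCx.map
    rw [mkHomFromDouble_f₀, Cotangent.map_id, id_f]
    simp only [ModuleCat.ofHom_id, Category.id_comp]
    exact Iso.hom_inv_id _
  · unfold NLCx.map
    rw [mkHomFromDouble_f₁, CotangentSpace.map_id, id_f]
    simp only [ModuleCat.ofHom_id, Category.id_comp]
    exact Iso.hom_inv_id _

/-- two presentations of the same algebra have homotopy equivalent naive cotangent complexes -/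
noncomputable def homotopyCompId (f : Q.Hom Q') (g : Q'.Hom Q) :
    Homotopy (NLCx.map f ≫ NLCx.map g) (𝟙 (NLCx.cx Q)) :=
  (Homotopy.ofEq (map_comp f g).symm).trans
    ((homotopyMap (g.comp f) (Algebra.Extension.Hom.id Q)).trans (Homotopy.ofEq (map_id Q)))

end ChainSame

end Groth.Agent.Helper2.NLFlat
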