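import Mathlib
import Groth.Prelude.Def_SheafNL
import Groth.Agent.Lib.Helper7.NLBC.Main
import Groth.Agent.Lib.Helper7.NLLoc.Main
import Groth.Agent.Lib.Helper2.NLFlat.Abstract

/-! Flat base change of the naive cotangent complex: the comparison map for the base-changed
presentation is an isomorphism of complexes (first half of S7224). -/

set_option autoImplicit false
set_option synthInstance.maxHeartbeats 400000
set_option maxHeartbeats 4000000
set_option linter.style.haveILetI false
set_option linter.unusedSectionVars false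
set_option linter.unusedVariables false
set_option linter.unusedSimpArgs false
set_option linter.unnecessarySimpa false

open CategoryTheory CategoryTheory.Limits TensorProduct

namespace Groth.Agent.Helper2.NLFlat

universe u

open Algebra.Extension

section AbstractExt

variable {R S R' S' : Type u} [CommRing R] [CommRing S] [Algebra R S] [CommRing R'] [CommRing S']
  [Algebra R' S'] [Algebra R R'] [Algebra S S'] [Algebra R S'] [IsScalarTower R R' S']
  [IsScalarTower R S S']
  {P : Algebra.Extension.{u} R S} {P' : Algebra.Extension.{u} R' S'} (f : P.Hom P')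

theorem lbc_cotangent_injective_of_flat
    [Algebra P.Ring P'.Ring] [Algebra P.Ring S'] [IsScalarTower P.Ring S S']
    [IsScalarTower P.Ring P'.Ring S'] [Algebra.IsPushout P.Ring P'.Ring S S']
    [Module.Flat P.Ring P'.Ring]
    (hfe : f.toRingHom = algebraMap P.Ring P'.Ring)
    (hI : P'.ker = P.ker.map (algebraMap P.Ring P'.Ring)) :
    Function.Injective (LinearMap.liftBaseChange S' (Cotangent.map f)) := by
  obtain ⟨q, hq⟩ : ∃ q : P.Cotangent →ₗ[P.Ring] P.Ring ⧸ P.ker ^ 2,
      q = (P.ker.cotangentToQuotientSquare) ∘ₗ P.cotangentEquivCotangentKer.toLinearMap :=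
    ⟨_, rfl⟩
  have hqinj : Function.Injective q := by
    rw [hq]
    exact (Ideal.cotangentToQuotientSquare_injective _).comp
      P.cotangentEquivCotangentKer.injective
  obtain ⟨Q', hQ'⟩ : ∃ Q' : P'.Cotangent →ₗ[P'.Ring] P'.Ring ⧸ P'.ker ^ 2,
      Q' = (P'.ker.cotangentToQuotientSquare) ∘ₗ P'.cotangentEquivCotangentKer.toLinearMap :=
    ⟨_, rfl⟩
  obtain ⟨c, hc⟩ : ∃ c : S' ⊗[S] P.Cotangent ≃ₗ[P'.Ring] P'.Ring ⊗[P.Ring] P.Cotangent,
      c = Algebra.IsPushout.cancelBaseChange P.Ring P'.Ring S S' P.Cotangent := ⟨_, rfl⟩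
  have hcs : ∀ (a' : P'.Ring) (m : P.Cotangent),
      c.symm (a' ⊗ₜ m) = algebraMap P'.Ring S' a' ⊗ₜ m := by
    intro a' m
    rw [hc]
    exact Algebra.IsPushout.cancelBaseChange_symm_tmul P.Ring P'.Ring S S' _ a' m
  have key : Function.Injective
      ((LinearMap.liftBaseChange S' (Cotangent.map f)).toAddMonoidHom.comp
        c.symm.toLinearMap.toAddMonoidHom) := by
    refine injective_of_comm (A := P.Ring) (A' := P'.Ring) P.ker P'.ker hI
      q hqinj Q'.toAddMonoidHom _ ?_
    intro a' m
    obtain ⟨x, rfl⟩ := Cotangent.mk_surjective m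
    have e1 : ((LinearMap.liftBaseChange S' (Cotangent.map f)).toAddMonoidHom.comp
        c.symm.toLinearMap.toAddMonoidHom) (a' ⊗ₜ Cotangent.mk x) =
        a' • Cotangent.mk ⟨f.toAlgHom x, Helper7.NLBC.map_ker_le f
          (Ideal.mem_map_of_mem _ x.2)⟩ := by
      show LinearMap.liftBaseChange S' (Cotangent.map f) (c.symm (a' ⊗ₜ Cotangent.mk x)) = _
      rw [hcs, LinearMap.liftBaseChange_tmul, Cotangent.map_mk, algebraMap_smul]
    rw [e1]
    show Q' (a' • _) = _
    rw [map_smul]
    congr 1
    rw [hQ', hq]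
    show Ideal.Quotient.mk (P'.ker ^ 2) (f.toAlgHom x.1) =
      psi0 _ _ hI (Ideal.Quotient.mk (P.ker ^ 2) x.1)
    rw [psi0_mk, ← hfe]
    rfl
  intro x y hxy
  have hx : x = c.symm (c x) := (c.symm_apply_apply x).symm
  have hy : y = c.symm (c y) := (c.symm_apply_apply y).symm
  have h3 : c x = c y := by
    apply key
    show LinearMap.liftBaseChange S' (Cotangent.map f) (c.symm (c x)) =
      LinearMap.liftBaseChange S' (Cotangent.map f) (c.symm (c y))
    rw [← hx, ← hy]
    exact hxy
  exact c.injective h3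

end AbstractExt

variable (R S R' S' : Type u) [CommRing R] [CommRing S] [CommRing R'] [CommRing S']
  [Algebra R S] [Algebra R' S'] [Algebra R R'] [Algebra S S'] [Algebra R S']
  [IsScalarTower R R' S'] [IsScalarTower R S S']
  {ι : Type u} (G : Algebra.Generators R S ι) (G' : Algebra.Generators R' S' ι)
  (h : ∀ i, G'.val i = algebraMap S S' (G.val i))

attribute [local instance] MvPolynomial.algebraMvPolynomial in
theorem liftBaseChange_cotangent_injective [Algebra.IsPushout R R' S S'] [Module.Flat R R'] :
    Function.Injective (LinearMap.liftBaseChange S'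
      (Cotangent.map (NLCx.sameVarsHom G G' h).toExtensionHom)) := by
  letI : Algebra G.Ring S' := ((algebraMap S S').comp (algebraMap G.Ring S)).toAlgebra
  haveI : IsScalarTower G.Ring S S' := IsScalarTower.of_algebraMap_eq' rfl
  haveI t2 : IsScalarTower G.Ring G'.Ring S' := by
    refine IsScalarTower.of_algebraMap_eq (fun x => ?_)
    have := (NLCx.sameVarsHom G G' h).toExtensionHom.algebraMap_toRingHom x
    rw [Helper7.NLBC.toRingHom_eq_map] at this
    exact this.symm
  haveI : Algebra.IsPushout R S R' S' := Algebra.IsPushout.symm inferInstance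
  haveI hpo : Algebra.IsPushout G.Ring S G'.Ring S' :=
    (Algebra.IsPushout.comp_iff R G.Ring R' G'.Ring (T := S) (T' := S')).mp inferInstance
  haveI hpo' : Algebra.IsPushout G.Ring G'.Ring S S' := Algebra.IsPushout.symm hpo
  haveI hflat : Module.Flat G.Ring G'.Ring :=
    Module.Flat.isBaseChange R G.Ring R' G'.Ring
      (Algebra.IsPushout.out (R := R) (S := G.Ring) (R' := R') (S' := G'.Ring))
  obtain ⟨f, hf⟩ : ∃ f, f = (NLCx.sameVarsHom G G' h).toExtensionHom := ⟨_, rfl⟩
  rw [← hf]
  have hfe : f.toRingHom = algebraMap G.Ring G'.Ring := by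
    rw [hf]
    exact RingHom.ext (fun x => Helper7.NLBC.toRingHom_eq_map R S R' S' G G' h x)
  have hI : G'.toExtension.ker = G.toExtension.ker.map (algebraMap G.Ring G'.Ring) := by
    rw [← hfe]
    refine le_antisymm ?_ (Helper7.NLBC.map_ker_le f)
    rw [hf]
    exact Helper7.NLBC.ker_le_map R S R' S' G G' h
  letI a1 : Algebra G.toExtension.Ring G'.toExtension.Ring :=
    (MvPolynomial.algebraMvPolynomial : Algebra G.Ring G'.Ring)
  letI a2 : Algebra G.toExtension.Ring S' :=
    ((algebraMap S S').comp (algebraMap G.Ring S)).toAlgebra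
  haveI t1' : IsScalarTower G.toExtension.Ring S S' := IsScalarTower.of_algebraMap_eq' rfl
  haveI t2' : IsScalarTower G.toExtension.Ring G'.toExtension.Ring S' := t2
  haveI p1 : Algebra.IsPushout G.toExtension.Ring G'.toExtension.Ring S S' := hpo'
  haveI fl : Module.Flat G.toExtension.Ring G'.toExtension.Ring := hflat
  exact lbc_cotangent_injective_of_flat f hfe hI

theorem part1_iso [Algebra.IsPushout R R' S S'] [Module.Flat R R'] :
    IsIso (NLCx.bcMap (S' := S') (NLCx.sameVarsHom G G' h).toExtensionHom) := by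
  haveI i0 : IsIso (ModuleCat.ofHom (LinearMap.liftBaseChange S'
      (Cotangent.map (NLCx.sameVarsHom G G' h).toExtensionHom))) :=
    (ConcreteCategory.isIso_iff_bijective _).mpr
      ⟨liftBaseChange_cotangent_injective R S R' S' G G' h,
        Helper7.NLBC.liftBaseChange_cotangent_surjective _
          (Helper7.NLBC.ker_le_map R S R' S' G G' h)⟩
  haveI i1 : IsIso (ModuleCat.ofHom (LinearMap.liftBaseChange S'
      (CotangentSpace.map (NLCx.sameVarsHom G G' h).toExtensionHom))) :=
    (ConcreteCategory.isIso_iff_bijective _).mpr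
      (Helper7.NLBC.liftBaseChange_cotangentSpace_bijective R S R' S' G G' h)
  unfold NLCx.bcMap
  refine Helper7.NLLoc.isIso_mkHomFromDouble _ _ _ ?_ _ _ _ _
  intro k h0 h1
  exact HomologicalComplex.isZero_double_X _ _ k h0 h1

end Groth.Agent.Helper2.NLFlat
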