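import Mathlib
import Groth.Prelude.Def_SheafNL
import Groth.Agent.Lib.Helper2.NLFlat.Inj
import Groth.Agent.Lib.Helper2.NLFlat.Chain

/-! Flat base change of the naive cotangent complex (S7224): the comparison map for the
base-changed presentation is an isomorphism of complexes, and the comparison map for the
presentations on all elements is a homotopy equivalence. -/

set_option autoImplicit false
set_option synthInstance.maxHeartbeats 400000
set_option maxHeartbeats 4000000
set_option linter.style.haveILetI false
set_option linter.unusedSectionVars false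
set_option linter.unusedVariables false
set_option linter.unusedSimpArgs false
set_option linter.unnecessarySimpa false

open CategoryTheory CategoryTheory.Limits TensorProduct HomologicalComplex

namespace Groth.Agent.Helper2.NLFlat

universe u

open Algebra.Extension

variable (R S R' S' : Type u) [CommRing R] [CommRing S] [CommRing R'] [CommRing S']
  [Algebra R S] [Algebra R' S'] [Algebra R R'] [Algebra S S'] [Algebra R S']
  [IsScalarTower R R' S'] [IsScalarTower R S S'] [Algebra.IsPushout R R' S S'] [Module.Flat R R']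

theorem part2_he :
    ∃ e : HomotopyEquiv (NLCx.bcCx (Algebra.Generators.self R S).toExtension S')
        (NLCx.cx (Algebra.Generators.self R' S').toExtension),
      e.hom = NLCx.bcMapSelf R S R' S' := by
  obtain ⟨G₁, hG₁⟩ : ∃ G₁, G₁ = Helper7.NLBC.genBC R S R' S' := ⟨_, rfl⟩
  have hval : ∀ s, G₁.val s = algebraMap S S' ((Algebra.Generators.self R S).val s) := by
    intro s
    rw [hG₁]
    exact Helper7.NLBC.genBC_val R S R' S' s
  obtain ⟨u, hu⟩ : ∃ u, u =
      (NLCx.sameVarsHom (Algebra.Generators.self R S) G₁ hval).toExtensionHom := ⟨_, rfl⟩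
  obtain ⟨v, hv⟩ : ∃ v, v =
      (G₁.defaultHom (Algebra.Generators.self R' S')).toExtensionHom := ⟨_, rfl⟩
  obtain ⟨w, hw⟩ : ∃ w, w =
      ((Algebra.Generators.self R' S').defaultHom G₁).toExtensionHom := ⟨_, rfl⟩
  haveI hU : IsIso (NLCx.bcMap (S' := S') u) := by
    rw [hu]
    exact part1_iso R S R' S' _ G₁ hval
  have H1 : Homotopy (NLCx.bcMapSelf R S R' S') (NLCx.bcMap (S' := S') u ≫ NLCx.map v) :=
    (homotopyBcMap _ (v.comp u)).trans (Homotopy.ofEq (bcMap_comp u v))
  have H2 : Homotopy (NLCx.map v ≫ NLCx.map w) (𝟙 _) := homotopyCompId v w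
  have H3 : Homotopy (NLCx.map w ≫ NLCx.map v) (𝟙 _) := homotopyCompId w v
  refine ⟨{ hom := NLCx.bcMapSelf R S R' S'
            inv := NLCx.map w ≫ inv (NLCx.bcMap (S' := S') u)
            homotopyHomInvId := ?_
            homotopyInvHomId := ?_ }, rfl⟩
  · have h1 := H1.compRight (NLCx.map w ≫ inv (NLCx.bcMap (S' := S') u))
    have h2 := (H2.compRight (inv (NLCx.bcMap (S' := S') u))).compLeft
      (NLCx.bcMap (S' := S') u)
    refine h1.trans ((Homotopy.ofEq ?_).trans (h2.trans (Homotopy.ofEq ?_)))
    · simp only [Category.assoc]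
    · simp
  · have h1 := H1.compLeft (NLCx.map w ≫ inv (NLCx.bcMap (S' := S') u))
    refine h1.trans ((Homotopy.ofEq ?_).trans H3)
    simp

theorem main7224 {ι : Type u} (G : Algebra.Generators R S ι) (G' : Algebra.Generators R' S' ι)
    (h : ∀ i, G'.val i = algebraMap S S' (G.val i)) :
    IsIso (NLCx.bcMap (S' := S') (NLCx.sameVarsHom G G' h).toExtensionHom) ∧
      ∃ e : HomotopyEquiv (NLCx.bcCx (Algebra.Generators.self R S).toExtension S')
          (NLCx.cx (Algebra.Generators.self R' S').toExtension),
        e.hom = NLCx.bcMapSelf R S R' S' :=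
  ⟨part1_iso R S R' S' G G' h, part2_he R S R' S'⟩

end Groth.Agent.Helper2.NLFlat
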